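import Mathlib
import Groth.Agent.H1.FlatLocusGlobal

/-!
# Base change of the model modules `𝓜.Mod C`
-/

set_option autoImplicit false
set_option linter.style.haveILetI false
universe u
open TensorProduct Function

namespace Groth.Agent.H70.MinFree

open Groth.Agent.H1.FlatLocus

attribute [local instance] MvPolynomial.algebraMvPolynomial

variable {Z : Type u} [CommRing Z] (𝓜 : Model Z)
variable (C C' : Type u) [CommRing C] [CommRing C'] [Algebra C C'] [Algebra Z C] [Algebra Z C']
  [IsScalarTower Z C C']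

/-- `C' ⊗_C 𝓜.Mod C ≃ 𝓜.Mod C'` as `C'`-modules. -/
noncomputable def modBaseChange : C' ⊗[C] (𝓜.Mod C) ≃ₗ[C'] 𝓜.Mod C' :=
  (Algebra.IsPushout.cancelBaseChange C C' (𝓜.P C) (𝓜.P C') (𝓜.Mod C)).symm ≪≫ₗ
    ((𝓜.isBaseChange_mapMod C C').equiv.restrictScalars C')

theorem flat_mod_of_flat (h : Module.Flat C (𝓜.Mod C)) : Module.Flat C' (𝓜.Mod C') :=
  Module.Flat.of_linearEquiv (modBaseChange 𝓜 C C').symm

theorem free_mod_of_free (h : Module.Free C (𝓜.Mod C)) : Module.Free C' (𝓜.Mod C') :=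
  Module.Free.of_equiv (modBaseChange 𝓜 C C')

end Groth.Agent.H70.MinFree
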