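import Mathlib
import Groth.Prelude.Def_FlatCA
import Groth.Agent.S4848

/-!
# The directed system of localizations `A_t`, `t ∉ p`, with colimit `A_p`
-/

set_option autoImplicit false
set_option linter.style.haveILetI false
universe u
open TensorProduct Function

namespace Groth.Agent.H70.MinFree

variable {A : Type u} [CommRing A] (p : Ideal A) [p.IsPrime]

/-- index type: elements outside `p`, ordered by divisibility -/
structure Idx : Type u where
  val : A
  notMem : val ∉ p

instance : Preorder (Idx p) where
  le a b := a.val ∣ b.val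
  le_refl a := dvd_refl _
  le_trans _ _ _ := dvd_trans

/-- the stage rings -/
abbrev G (i : Idx p) : Type u := Localization.Away i.val

variable {p}

theorem isUnit_of_le {i j : Idx p} (h : i ≤ j) (y : Submonoid.powers i.val) :
    IsUnit (Algebra.ofId A (G p j) y) := by
  obtain ⟨y, n, rfl⟩ := y
  change IsUnit (algebraMap A (G p j) (i.val ^ n))
  rw [map_pow]
  refine IsUnit.pow n ?_
  have hd : algebraMap A (G p j) i.val ∣ algebraMap A (G p j) j.val := map_dvd _ h
  exact isUnit_of_dvd_unit hd (IsLocalization.Away.algebraMap_isUnit j.val)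

/-- transition maps -/
noncomputable def trans (i j : Idx p) (h : i ≤ j) : G p i →ₐ[A] G p j :=
  IsLocalization.liftAlgHom (M := Submonoid.powers i.val) (f := Algebra.ofId A (G p j))
    (isUnit_of_le h)

theorem trans_algebraMap (i j : Idx p) (h : i ≤ j) (a : A) :
    trans i j h (algebraMap A (G p i) a) = algebraMap A (G p j) a :=
  (trans i j h).commutes a

theorem isUnit_atPrime (i : Idx p) (y : Submonoid.powers i.val) :
    IsUnit (algebraMap A (Localization.AtPrime p) y) := by
  obtain ⟨y, n, rfl⟩ := y
  rw [map_pow]
  refine IsUnit.pow n ?_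
  exact IsLocalization.map_units (Localization.AtPrime p) (⟨i.val, i.notMem⟩ : p.primeCompl)

/-- the maps to the colimit -/
noncomputable def toAtPrime (i : Idx p) : G p i →+* Localization.AtPrime p :=
  IsLocalization.lift (M := Submonoid.powers i.val) (g := algebraMap A (Localization.AtPrime p))
    (isUnit_atPrime i)

theorem toAtPrime_algebraMap (i : Idx p) (a : A) :
    toAtPrime i (algebraMap A (G p i) a) = algebraMap A (Localization.AtPrime p) a :=
  IsLocalization.lift_eq _ a

theorem isDirectedColimitRing :
    letI : ∀ i : Idx p, Algebra (G p i) (Localization.AtPrime p) := fun i => (toAtPrime i).toAlgebra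
    FlatCA.IsDirectedColimitRing (G p) (fun i j h => (trans i j h).toRingHom)
      (Localization.AtPrime p) := by
  letI : ∀ i : Idx p, Algebra (G p i) (Localization.AtPrime p) := fun i => (toAtPrime i).toAlgebra
  refine ⟨⟨fun i j => ⟨⟨i.val * j.val, fun h =>
      (Ideal.IsPrime.mem_or_mem inferInstance h).elim i.notMem j.notMem⟩,
      Dvd.intro _ rfl, Dvd.intro_left _ rfl⟩⟩,
    ⟨⟨1, (Ideal.ne_top_iff_one p).mp (Ideal.IsPrime.ne_top inferInstance)⟩⟩, ?_, ?_, ?_, ?_, ?_⟩
  · intro i
    refine IsLocalization.ringHom_ext (Submonoid.powers i.val) ?_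
    ext a
    exact trans_algebraMap i i le_rfl a
  · intro i j k hij hjk
    refine IsLocalization.ringHom_ext (Submonoid.powers i.val) ?_
    ext a
    change trans j k hjk (trans i j hij (algebraMap A (G p i) a)) =
      trans i k (hij.trans hjk) (algebraMap A (G p i) a)
    rw [trans_algebraMap, trans_algebraMap, trans_algebraMap]
  · intro i j h
    refine IsLocalization.ringHom_ext (Submonoid.powers i.val) ?_
    ext a
    change toAtPrime j (trans i j h (algebraMap A (G p i) a)) =
      toAtPrime i (algebraMap A (G p i) a)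
    rw [trans_algebraMap, toAtPrime_algebraMap, toAtPrime_algebraMap]
  · intro a
    obtain ⟨⟨r, s⟩, hrs⟩ := IsLocalization.surj p.primeCompl a
    refine ⟨⟨s.1, s.2⟩, IsLocalization.mk' (G p ⟨s.1, s.2⟩) r
      (⟨s.1, Submonoid.mem_powers _⟩ : Submonoid.powers s.1), ?_⟩
    change toAtPrime ⟨s.1, s.2⟩ _ = a
    have hu : IsUnit (algebraMap A (Localization.AtPrime p) s.1) :=
      IsLocalization.map_units (Localization.AtPrime p) s
    refine hu.mul_left_injective ?_
    simp only
    rw [hrs, ← toAtPrime_algebraMap ⟨s.1, s.2⟩ s.1, ← map_mul, IsLocalization.mk'_spec,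
      toAtPrime_algebraMap]
  · intro i x hx
    obtain ⟨n, r, hnr⟩ := IsLocalization.Away.surj i.val x
    have h0 : algebraMap A (Localization.AtPrime p) r = 0 := by
      rw [← toAtPrime_algebraMap i r, ← hnr, map_mul]
      change algebraMap (G p i) (Localization.AtPrime p) x = 0 at hx
      change algebraMap (G p i) (Localization.AtPrime p) x * _ = 0
      rw [hx, zero_mul]
    obtain ⟨u, hu⟩ := (IsLocalization.map_eq_zero_iff p.primeCompl _ r).mp h0
    let j : Idx p := ⟨i.val * u.1, fun h =>
      (Ideal.IsPrime.mem_or_mem inferInstance h).elim i.notMem u.2⟩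
    have hij : i ≤ j := Dvd.intro _ rfl
    refine ⟨j, hij, ?_⟩
    change trans i j hij x = 0
    have hr0 : algebraMap A (G p j) r = 0 := by
      rw [IsLocalization.map_eq_zero_iff (Submonoid.powers j.val)]
      refine ⟨⟨j.val, Submonoid.mem_powers _⟩, ?_⟩
      change i.val * u.1 * r = 0
      rw [mul_assoc, hu, mul_zero]
    have h1 : trans i j hij x * algebraMap A (G p j) i.val ^ n = 0 := by
      rw [← trans_algebraMap i j hij, ← map_pow, ← map_mul, hnr, trans_algebraMap, hr0]
    have hunit : IsUnit (algebraMap A (G p j) i.val ^ n) := by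
      have := isUnit_of_le hij ⟨i.val ^ n, n, rfl⟩
      rw [← map_pow]
      exact this
    exact hunit.mul_left_eq_zero.mp h1

/-- Flatness at the prime `p` spreads out to a principal open neighbourhood (via S4848). -/
theorem exists_flat_away {B : Type u} [CommRing B] [Algebra A B]
    [Algebra.FinitePresentation A B] (M : Type u) [AddCommGroup M] [Module B M] [Module A M]
    [IsScalarTower A B M] [Module.FinitePresentation B M]
    (h : Module.Flat (Localization.AtPrime p) (Localization.AtPrime p ⊗[A] M)) :
    ∃ t : A, t ∉ p ∧ Module.Flat (Localization.Away t) (Localization.Away t ⊗[A] M) := by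
  letI : ∀ i : Idx p, Algebra (G p i) (Localization.AtPrime p) := fun i => (toAtPrime i).toAlgebra
  haveI : ∀ i : Idx p, IsScalarTower A (G p i) (Localization.AtPrime p) := fun i =>
    IsScalarTower.of_algebraMap_eq fun a => (toAtPrime_algebraMap i a).symm
  obtain ⟨i, hi⟩ := (Groth.Agent.S4848.result (A₀ := A) (G p) (fun i j h => trans i j h)
    (Localization.AtPrime p) isDirectedColimitRing (B₀ := B) M).mp h
  exact ⟨i.val, i.notMem, hi⟩

end Groth.Agent.H70.MinFree
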