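import Mathlib
import Groth.Agent.H24.NilFree

/-!
# A flat module which is free modulo a nilpotent ideal is free
-/

set_option autoImplicit false
set_option linter.style.haveILetI false
universe u
open TensorProduct Function

namespace Groth.Agent.H70.MinFree

/-- A flat `R`-module `X` such that `(R/I) ⊗ X` is free over `R/I`, with `I` nilpotent, is free. -/
theorem free_of_flat_of_free_quotient {R : Type u} [CommRing R] (I : Ideal R) (hI : IsNilpotent I)
    (X : Type u) [AddCommGroup X] [Module R X] [Module.Flat R X]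
    [Module.Free (R ⧸ I) ((R ⧸ I) ⊗[R] X)] : Module.Free R X := by
  classical
  let ι := Module.Free.ChooseBasisIndex (R ⧸ I) ((R ⧸ I) ⊗[R] X)
  let b : Module.Basis ι (R ⧸ I) ((R ⧸ I) ⊗[R] X) := Module.Free.chooseBasis _ _
  have hmk : Surjective (TensorProduct.mk R (R ⧸ I) X 1) :=
    TensorProduct.mk_surjective R X (R ⧸ I) Ideal.Quotient.mk_surjective
  choose x hx using fun i => hmk (b i)
  have hx' : ∀ i, (1 : R ⧸ I) ⊗ₜ[R] x i = b i := hx
  let ψ : (ι →₀ R) →ₗ[R] X := Finsupp.linearCombination R x
  -- kernel of `X → (R/I) ⊗ X`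
  have hker1 : ∀ y : X, (1 : R ⧸ I) ⊗ₜ[R] y = 0 → y ∈ I • (⊤ : Submodule R X) := by
    intro y hy
    have := congrArg (TensorProduct.quotTensorEquivQuotSMul X I) hy
    rw [← map_one (Ideal.Quotient.mk I), TensorProduct.quotTensorEquivQuotSMul_mk_tmul,
      map_zero, one_smul, Submodule.Quotient.mk_eq_zero] at this
    exact this
  -- image of a combination
  have hcomb : ∀ a : ι →₀ R, (1 : R ⧸ I) ⊗ₜ[R] ψ a =
      b.repr.symm (a.mapRange (Ideal.Quotient.mk I) (map_zero _)) := by
    intro a
    induction a using Finsupp.induction_linear with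
    | zero => simp
    | add f g hf hg =>
      rw [map_add, TensorProduct.tmul_add, hf, hg, Finsupp.mapRange_add (by intro x y; exact map_add _ x y),
        map_add]
    | single i r =>
      rw [Finsupp.mapRange_single, Module.Basis.repr_symm_single]
      simp only [ψ, Finsupp.linearCombination_single]
      rw [TensorProduct.tmul_smul, hx', ← Ideal.Quotient.algebraMap_eq, algebraMap_smul]
  -- surjectivity
  have hsurj : Surjective ψ := by
    rw [← LinearMap.range_eq_top]
    obtain ⟨k, hk⟩ := hI
    refine Groth.Agent.H24.eq_top_of_sup_smul_top_eq_top_of_pow_eq_bot _ I ?_ k hk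
    rw [eq_top_iff]
    intro y _
    -- lift the coordinates of `1 ⊗ y`
    let c := b.repr ((1 : R ⧸ I) ⊗ₜ[R] y)
    have hlift : ∃ a : ι →₀ R, a.mapRange (Ideal.Quotient.mk I) (map_zero _) = c := by
      have hs : Surjective (Finsupp.mapRange (Ideal.Quotient.mk I) (map_zero _) :
          (ι →₀ R) → (ι →₀ R ⧸ I)) :=
        Finsupp.mapRange_surjective _ (map_zero _) Ideal.Quotient.mk_surjective
      exact hs c
    obtain ⟨a, ha⟩ := hlift
    have h0 : (1 : R ⧸ I) ⊗ₜ[R] (y - ψ a) = 0 := by
      rw [TensorProduct.tmul_sub, hcomb, ha]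
      simp [c]
    have hmem := hker1 _ h0
    have : y = ψ a + (y - ψ a) := by abel
    rw [this]
    exact Submodule.add_mem_sup (LinearMap.mem_range_self ψ a) hmem
  -- kernel
  have hker : LinearMap.ker ψ ≤ I • (⊤ : Submodule R (ι →₀ R)) := by
    intro a ha
    have h0 : b.repr.symm (a.mapRange (Ideal.Quotient.mk I) (map_zero _)) = 0 := by
      rw [← hcomb, LinearMap.mem_ker.mp ha, TensorProduct.tmul_zero]
    have h1 : a.mapRange (Ideal.Quotient.mk I) (map_zero _) = 0 :=
      (LinearEquiv.map_eq_zero_iff b.repr.symm).mp h0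
    have hmemI : ∀ i, a i ∈ I := by
      intro i
      have := DFunLike.congr_fun h1 i
      rw [Finsupp.mapRange_apply, Finsupp.zero_apply, Ideal.Quotient.eq_zero_iff_mem] at this
      exact this
    rw [← Finsupp.sum_single a]
    refine Submodule.sum_mem _ fun i _ => ?_
    have : Finsupp.single i (a i) = (a i) • (Finsupp.single i (1 : R) : ι →₀ R) := by
      rw [Finsupp.smul_single, smul_eq_mul, mul_one]
    rw [this]
    exact Submodule.smul_mem_smul (hmemI i) Submodule.mem_top
  have hinj := Groth.Agent.H24.injective_of_flat_of_ker_le_smul_top ψ hsurj I hI hker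
  exact Module.Free.of_equiv (LinearEquiv.ofBijective ψ ⟨hinj, hsurj⟩)

end Groth.Agent.H70.MinFree
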