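import Mathlib
import Groth.Agent.H70.MinFree.ModelBC
import Groth.Agent.H70.MinFree.NilLift
import Groth.Agent.H17.GenFreeAlg

/-!
# Noetherian core: flat over a Noetherian ring with prime nilradical ⇒ free over a localization
-/

set_option autoImplicit false
set_option linter.style.haveILetI false
universe u
open TensorProduct Function

namespace Groth.Agent.H70.MinFree

open Groth.Agent.H1.FlatLocus

attribute [local instance] MvPolynomial.algebraMvPolynomial

variable {Z : Type u} [CommRing Z] (𝓜 : Model Z)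

theorem exists_free_of_noetherian (C : Type u) [CommRing C] [Algebra Z C] [IsNoetherianRing C]
    (hprime : (nilradical C).IsPrime) (hflat : Module.Flat C (𝓜.Mod C)) :
    ∃ s : C, s ∉ nilradical C ∧
      Module.Free (Localization.Away s) (𝓜.Mod (Localization.Away s)) := by
  set n := nilradical C with hn
  let D := C ⧸ n
  haveI : IsDomain D := Ideal.Quotient.isDomain n
  have hgf : Groth.Agent.H17.GenFree D (𝓜.Mod D) :=
    Groth.Agent.H17.genFree_of_finite_of_finiteType D (𝓜.P D) (𝓜.Mod D)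
  obtain ⟨abar, habar, hfree⟩ := hgf
  obtain ⟨s, rfl⟩ := Ideal.Quotient.mk_surjective abar
  have hs : s ∉ n := fun h => habar (Ideal.Quotient.eq_zero_iff_mem.mpr h)
  refine ⟨s, hs, ?_⟩
  let C₁ := Localization.Away s
  let I₁ : Ideal C₁ := n.map (algebraMap C C₁)
  let D₁ := C₁ ⧸ I₁
  have hI₁ : IsNilpotent I₁ := by
    obtain ⟨k, hk⟩ := IsNoetherianRing.isNilpotent_nilradical C
    refine ⟨k, ?_⟩
    change (n.map (algebraMap C C₁)) ^ k = 0
    rw [← Ideal.map_pow]
    rw [show n ^ k = ⊥ from hk, Ideal.map_bot]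
    rfl
  -- `D₁` is a localization of `D`, hence flat, and `abar` is a unit
  haveI hloc : IsLocalization (Algebra.algebraMapSubmonoid D (Submonoid.powers s)) D₁ :=
    inferInstance
  haveI : Module.Flat D D₁ :=
    IsLocalization.flat D₁ (Algebra.algebraMapSubmonoid D (Submonoid.powers s))
  have hunit : IsUnit (algebraMap D D₁ (Ideal.Quotient.mk n s)) :=
    IsLocalization.map_units D₁
      (⟨_, ⟨s, Submonoid.mem_powers s, rfl⟩⟩ :
        Algebra.algebraMapSubmonoid D (Submonoid.powers s))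
  have hfree₁ : Module.Free D₁ (D₁ ⊗[D] 𝓜.Mod D) := hfree D₁ hunit
  haveI : IsScalarTower Z D D₁ := by
    refine IsScalarTower.of_algebraMap_eq fun z => ?_
    rfl
  have hfree₂ : Module.Free D₁ (𝓜.Mod D₁) := Module.Free.of_equiv (modBaseChange 𝓜 D D₁)
  have hfree₃ : Module.Free D₁ (D₁ ⊗[C₁] 𝓜.Mod C₁) :=
    Module.Free.of_equiv (modBaseChange 𝓜 C₁ D₁).symm
  haveI : Module.Flat C₁ (𝓜.Mod C₁) := flat_mod_of_flat 𝓜 C C₁ hflat
  exact free_of_flat_of_free_quotient I₁ hI₁ (𝓜.Mod C₁)

end Groth.Agent.H70.MinFree
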