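import Mathlib
import Groth.Agent.H70.MinFree.Noeth

/-!
# Free localization at the unique minimal prime (model form)
-/

set_option autoImplicit false
set_option linter.style.haveILetI false
universe u
open TensorProduct Function

namespace Groth.Agent.H70.MinFree

open Groth.Agent.H1.FlatLocus

attribute [local instance] MvPolynomial.algebraMvPolynomial

theorem eq_nilradical_of_minimalPrimes_eq {A : Type u} [CommRing A] (p : Ideal A)
    (hp : minimalPrimes A = {p}) : p = nilradical A := by
  have h := Ideal.sInf_minimalPrimes (I := (⊥ : Ideal A))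
  rw [show (⊥ : Ideal A).minimalPrimes = minimalPrimes A from rfl, hp, sInf_singleton] at h
  rw [h]
  rfl

variable {Z : Type u} [CommRing Z] (𝓜 : Model Z)

theorem exists_free_away [IsNoetherianRing Z] (A : Type u) [CommRing A] [Algebra Z A]
    (p : Ideal A) [p.IsPrime] (hp : minimalPrimes A = {p}) (t : A) (ht : t ∉ p)
    (hflat : Module.Flat (Localization.Away t) (𝓜.Mod (Localization.Away t))) :
    ∃ T : A, T ∉ p ∧ Module.Free (Localization.Away T) (𝓜.Mod (Localization.Away T)) := by
  classical
  have hpnil := eq_nilradical_of_minimalPrimes_eq p hp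
  let A' := Localization.Away t
  haveI := hflat
  obtain ⟨C, hCfg, hCflat⟩ := 𝓜.exists_fg_subalgebra_flat A'
  haveI : Algebra.FiniteType Z C := (Subalgebra.fg_iff_finiteType C).mp hCfg
  haveI : IsNoetherianRing C := Algebra.FiniteType.isNoetherianRing Z C
  -- a field receiving `A'`
  let K := FractionRing (A ⧸ p)
  let f : A →+* K := (algebraMap (A ⧸ p) K).comp (Ideal.Quotient.mk p)
  have hf0 : ∀ a : A, f a = 0 ↔ a ∈ p := by
    intro a
    change algebraMap (A ⧸ p) K (Ideal.Quotient.mk p a) = 0 ↔ _
    rw [map_eq_zero_iff _ (IsFractionRing.injective (A ⧸ p) K), Ideal.Quotient.eq_zero_iff_mem]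
  have hft : IsUnit (f t) := IsUnit.mk0 _ (fun h => ht ((hf0 t).mp h))
  let g : A' →+* K := IsLocalization.Away.lift t hft
  have hg : ∀ a : A, g (algebraMap A A' a) = f a := fun a => IsLocalization.Away.lift_eq t hft a
  let ψ : C →+* K := g.comp (C.val : C →+* A')
  have hψ : ∀ x : C, ψ x = g (x : A') := fun _ => rfl
  have hker : RingHom.ker ψ = nilradical C := by
    ext x
    rw [RingHom.mem_ker, mem_nilradical]
    constructor
    · intro hx
      obtain ⟨k', a', hka⟩ := IsLocalization.Away.surj t (x : A')
      have h1 : f a' = 0 := by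
        rw [← hg, ← hka, map_mul, ← hψ, hx, zero_mul]
      have h2 : a' ∈ nilradical A := hpnil ▸ (hf0 a').mp h1
      have h3 : IsNilpotent (algebraMap A A' a') := (mem_nilradical.mp h2).map _
      rw [← hka] at h3
      have hu : IsUnit (algebraMap A A' t ^ k') :=
        (IsLocalization.Away.algebraMap_isUnit t).pow k'
      have h4 : IsNilpotent (x : A') := by
        obtain ⟨m, hm⟩ := h3
        refine ⟨m, ?_⟩
        rw [mul_pow] at hm
        exact (hu.pow m).mul_left_eq_zero.mp hm
      exact (IsNilpotent.map_iff (f := (C.val : C →+* A')) Subtype.val_injective).mp h4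
    · intro hx
      exact (hx.map ψ).eq_zero
  have hprime : (nilradical C).IsPrime := hker ▸ RingHom.ker_isPrime ψ
  obtain ⟨s, hs, hfree⟩ := exists_free_of_noetherian 𝓜 C hprime hCflat
  obtain ⟨k, a, hka⟩ := IsLocalization.Away.surj t (s : A')
  have hψs : ψ s ≠ 0 := by
    intro h
    exact hs (hker ▸ (RingHom.mem_ker.mpr h))
  have ha : a ∉ p := by
    intro hap
    have h1 : f a = 0 := (hf0 a).mpr hap
    rw [← hg, ← hka, map_mul, map_pow, hg] at h1
    rcases mul_eq_zero.mp h1 with h | h
    · exact hψs h
    · exact pow_ne_zero k hft.ne_zero h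
  have hT : t * a ∉ p := fun h => (Ideal.IsPrime.mem_or_mem inferInstance h).elim ht ha
  refine ⟨t * a, hT, ?_⟩
  let AT := Localization.Away (t * a)
  have hunitT : IsUnit (algebraMap A AT (t * a)) := IsLocalization.Away.algebraMap_isUnit (t * a)
  rw [map_mul] at hunitT
  have hut : IsUnit (algebraMap A AT t) := isUnit_of_mul_isUnit_left hunitT
  have hua : IsUnit (algebraMap A AT a) := isUnit_of_mul_isUnit_right hunitT
  let φ₁ : A' →+* AT := IsLocalization.Away.lift t hut
  have hφ₁ : ∀ x : A, φ₁ (algebraMap A A' x) = algebraMap A AT x :=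
    fun x => IsLocalization.Away.lift_eq t hut x
  let φ₂ : C →+* AT := φ₁.comp (C.val : C →+* A')
  have hφ₂s : IsUnit (φ₂ s) := by
    have h1 : φ₁ (s : A') * φ₁ (algebraMap A A' t) ^ k = algebraMap A AT a := by
      rw [← map_pow, ← map_mul, hka, hφ₁]
    have h2 : IsUnit (φ₁ (s : A') * φ₁ (algebraMap A A' t) ^ k) := h1 ▸ hua
    exact isUnit_of_mul_isUnit_left h2
  let φ₃ : Localization.Away s →+* AT := IsLocalization.Away.lift s hφ₂s
  have hφ₃ : ∀ c : C, φ₃ (algebraMap C (Localization.Away s) c) = φ₂ c :=
    fun c => IsLocalization.Away.lift_eq s hφ₂s c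
  letI : Algebra (Localization.Away s) AT := φ₃.toAlgebra
  haveI : IsScalarTower Z (Localization.Away s) AT := by
    refine IsScalarTower.of_algebraMap_eq fun z => ?_
    change algebraMap Z AT z = φ₃ (algebraMap Z (Localization.Away s) z)
    rw [IsScalarTower.algebraMap_apply Z C (Localization.Away s), hφ₃]
    change _ = φ₁ ((algebraMap Z C z : C) : A')
    have : ((algebraMap Z C z : C) : A') = algebraMap A A' (algebraMap Z A z) := by
      rw [← IsScalarTower.algebraMap_apply Z A A']
      rfl
    rw [this, hφ₁, ← IsScalarTower.algebraMap_apply Z A AT]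
  exact free_mod_of_free 𝓜 (Localization.Away s) AT hfree

end Groth.Agent.H70.MinFree
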