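import Mathlib
import Groth.Agent.H70.MinFree.Main
import Groth.Agent.H70.MinFree.LocSystem
import Groth.Agent.H1.FlatLocusExists

/-!
# Free localization of a f.p. module flat at the unique minimal prime
-/

set_option autoImplicit false
set_option linter.style.haveILetI false
universe u
open TensorProduct Function

namespace Groth.Agent.H70.MinFree

open Groth.Agent.H1.FlatLocus

attribute [local instance] MvPolynomial.algebraMvPolynomial

theorem nonempty_equiv_mod {Z : Type u} [CommRing Z] (𝓜 : Model Z) {A : Type u} [CommRing A]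
    [Algebra Z A] {M : Type u} [AddCommGroup M] [Module A M] (eA : 𝓜.Mod A ≃ₗ[A] M)
    (A' : Type u) [CommRing A'] [Algebra A A'] [Algebra Z A'] [IsScalarTower Z A A'] :
    Nonempty (A' ⊗[A] M ≃ₗ[A'] 𝓜.Mod A') :=
  ⟨(TensorProduct.AlgebraTensorModule.congr (LinearEquiv.refl A' A') eA.symm) ≪≫ₗ
      modBaseChange 𝓜 A A'⟩

theorem exists_free_localizedModule {A B : Type u} [CommRing A] [CommRing B] [Algebra A B]
    [Algebra.FinitePresentation A B] (p : Ideal A) [p.IsPrime] (hp : minimalPrimes A = {p})
    (M : Type u) [AddCommGroup M] [Module B M] [Module A M] [IsScalarTower A B M]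
    [Module.FinitePresentation B M]
    (hflat : Module.Flat (Localization.AtPrime p) (LocalizedModule p.primeCompl M)) :
    ∃ t : A, t ∉ p ∧
      Module.Free (Localization.Away t) (LocalizedModule (Submonoid.powers t) M) := by
  -- step 1: flatness on a principal open
  have h1 : Module.Flat (Localization.AtPrime p) (Localization.AtPrime p ⊗[A] M) :=
    Module.Flat.of_linearEquiv (LocalizedModule.equivTensorProduct p.primeCompl M).symm
  obtain ⟨t, ht, hflat_t⟩ := exists_flat_away (p := p) (B := B) M h1
  -- step 2: the model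
  obtain ⟨Z, hZ, 𝓜, φ, e, hφ, he⟩ := exists_model A B M
  have hft : Algebra.FiniteType ℤ Z := (Subalgebra.fg_iff_finiteType Z).mp hZ
  haveI hZnoeth : IsNoetherianRing Z := Algebra.FiniteType.isNoetherianRing ℤ Z
  have heA : ∀ (r : A) (x : 𝓜.Mod A), e (r • x) = r • e x := by
    intro r x
    rw [← algebraMap_smul (𝓜.P A) r x, he, AlgHom.commutes, algebraMap_smul]
  let eA : 𝓜.Mod A ≃ₗ[A] M := { e with map_smul' := heA }
  -- step 3: flatness of the model over `A_t`
  haveI : IsScalarTower Z A (Localization.Away t) := by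
    refine IsScalarTower.of_algebraMap_eq fun z => ?_
    rfl
  obtain ⟨e_t⟩ := nonempty_equiv_mod 𝓜 eA (Localization.Away t)
  have hflat_t' : Module.Flat (Localization.Away t) (𝓜.Mod (Localization.Away t)) :=
    Module.Flat.of_linearEquiv e_t.symm
  obtain ⟨T, hT, hfree⟩ := exists_free_away 𝓜 A p hp t ht hflat_t'
  refine ⟨T, hT, ?_⟩
  haveI : IsScalarTower Z A (Localization.Away T) := by
    refine IsScalarTower.of_algebraMap_eq fun z => ?_
    rfl
  obtain ⟨e_T⟩ := nonempty_equiv_mod 𝓜 eA (Localization.Away T)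
  exact @Module.Free.of_equiv _ _ _ _ _ _ _ _ _ _ _ _ _ _
    (e_T.symm ≪≫ₗ (LocalizedModule.equivTensorProduct (Submonoid.powers T) M).symm) hfree

end Groth.Agent.H70.MinFree
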